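import Groth.Agent.H4Lift.Basic
import Mathlib.Algebra.Homology.ShortComplex.ModuleCat

/-!
# Lifting acyclic complexes modulo an ideal
-/

set_option autoImplicit false

universe u

open CategoryTheory CategoryTheory.Limits

noncomputable section

namespace Groth.Agent.H4Lift

variable {R : Type u} [CommRing R] {I : Ideal R}

/-- The cycles. -/
abbrev Zc (E : DRing.Cx (R ⧸ I)) (i : ℤ) : ModuleCat.{u} (R ⧸ I) := kernel (E.d i (i + 1))

/-- The map onto the next cycles. -/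
abbrev tZ (E : DRing.Cx (R ⧸ I)) (i : ℤ) : E.X i ⟶ Zc E (i + 1) :=
  kernel.lift _ (E.d i (i + 1)) (E.d_comp_d _ _ _)

theorem kι_tZ (E : DRing.Cx (R ⧸ I)) (i : ℤ) : kernel.ι (E.d i (i + 1)) ≫ tZ E i = 0 := by
  rw [← cancel_mono (kernel.ι (E.d (i + 1) (i + 1 + 1))), Category.assoc, kernel.lift_ι, kernel.condition, zero_comp]

theorem shortExact_tZ {E : DRing.Cx (R ⧸ I)} (hE : E.Acyclic) (i : ℤ) :
    (ShortComplex.mk (kernel.ι (E.d i (i + 1))) (tZ E i) (kι_tZ E i)).ShortExact where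
  mono_f := inferInstanceAs (Mono (kernel.ι (E.d i (i + 1))))
  epi_g := by
    have h := (E.exactAt_iff' i (i + 1) (i + 1 + 1) (by simp) (by simp)).1 (hE (i + 1))
    exact h.epi_kernelLift
  exact := by
    refine ShortComplex.exact_of_f_is_kernel _ ?_
    refine KernelFork.IsLimit.ofι' _ _ fun k hk => ⟨kernel.lift _ k ?_, kernel.lift_ι _ _ _⟩
    rw [← kernel.lift_ι (E.d (i + 1) (i + 1 + 1)) (E.d i (i + 1)) (E.d_comp_d _ _ _), ← Category.assoc]
    erw [hk]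
    rw [zero_comp]

variable {Pc : ObjectProperty (ModuleCat.{u} R)} [Pc.IsClosedUnderIsomorphisms] (hP : Good I Pc)

include hP

theorem Good.exists_lift_acyclic (E : DRing.Cx (R ⧸ I)) (b : ℤ) (hEb : DRing.VanishesAbove E b)
    (hEa : E.Acyclic) (hEt : ∀ i : ℤ, ∃ X : ModuleCat.{u} R, Pc X ∧ Nonempty ((F I).obj X ≅ E.X i)) :
    ∃ (P : DRing.Cx R) (b' : ℤ), DRing.VanishesAbove P b' ∧ P.Acyclic ∧ (∀ i : ℤ, Pc (P.X i)) ∧
      Nonempty (((F I).mapHomologicalComplex (ComplexShape.up ℤ)).obj P ≅ E) := by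
  choose X hX eX using hEt
  have eX' := fun i => (eX i).some
  have hZ0 : Pc (ModuleCat.of R PUnit.{u + 1}) :=
    hP.pc_zero (hX 0) (ModuleCat.isZero_of_subsingleton _)
  have hzero : ∀ i, b < i → ∃ Y : ModuleCat.{u} R, Pc Y ∧ Nonempty ((F I).obj Y ≅ Zc E i) := fun i hi =>
    ⟨_, hZ0, ⟨IsZero.iso ((F I).map_isZero (ModuleCat.isZero_of_subsingleton _))
      (IsZero.of_mono (kernel.ι (E.d i (i + 1))) (hEb i hi))⟩⟩
  have hstep : ∀ i, (∃ Y : ModuleCat.{u} R, Pc Y ∧ Nonempty ((F I).obj Y ≅ Zc E (i + 1))) →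
      ∃ K : ModuleCat.{u} R, Pc K ∧ Nonempty ((F I).obj K ≅ Zc E i) := by
    rintro i ⟨Y, hY, ⟨eY⟩⟩
    obtain ⟨K, hK, -, he⟩ := hP.exists_ker_lift (hX i) hY _ (shortExact_tZ hEa i) (eX' i) eY
    exact ⟨K, hK, he⟩
  have hlift : ∀ (n : ℕ) (i : ℤ), b + 1 - n ≤ i →
      ∃ Y : ModuleCat.{u} R, Pc Y ∧ Nonempty ((F I).obj Y ≅ Zc E i) := by
    intro n
    induction n with
    | zero => exact fun i hi => hzero i (by omega)
    | succ n ih => exact fun i hi => hstep i (ih (i + 1) (by omega))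
  choose Y hY eY using fun i => hlift (b + 1 - i).toNat i (by omega)
  have eY' := fun i => (eY i).some
  have hprod : ∀ i, Pc (ModuleCat.of R (Y i × Y (i + 1))) := fun i => by
    obtain ⟨K, hK, hKY, ⟨e⟩⟩ := hP.exists_ker_lift (hX i) (hY (i + 1)) _ (shortExact_tZ hEa i) (eX' i) (eY' (i + 1))
    obtain ⟨f, -⟩ := hP.nonempty_iso hK (hY i) (e ≪≫ (eY' i).symm)
    exact Pc.prop_of_iso (LinearEquiv.prodCongr f.toLinearEquiv (LinearEquiv.refl R _)).toModuleIso hKY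
  let O : ℤ → ModuleCat.{u} R := fun i => ModuleCat.of R (Y i × Y (i + 1))
  let π₁ : ∀ i, O i ⟶ Y i := fun i => ModuleCat.ofHom (LinearMap.fst R _ _)
  let π₂ : ∀ i, O i ⟶ Y (i + 1) := fun i => ModuleCat.ofHom (LinearMap.snd R _ _)
  let j₁ : ∀ i, Y i ⟶ O i := fun i => ModuleCat.ofHom (LinearMap.inl R _ _)
  let j₂ : ∀ i, Y (i + 1) ⟶ O i := fun i => ModuleCat.ofHom (LinearMap.inr R _ _)
  let δ : ∀ i, O i ⟶ O (i + 1) := fun i => π₂ i ≫ j₁ (i + 1)
  have hδ : ∀ i, δ i ≫ δ (i + 1) = 0 := fun i => by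
    refine ModuleCat.hom_ext (LinearMap.ext fun x => ?_)
    exact Prod.ext rfl rfl
  let P : DRing.Cx R := CochainComplex.of O δ hδ
  have hPd : ∀ i, P.d i (i + 1) = δ i := fun i => CochainComplex.of_d _ _ i
  obtain ⟨s, hs⟩ : ∃ s : ∀ i, Zc E (i + 1) ⟶ E.X i, ∀ i, s i ≫ tZ E i = 𝟙 _ := by
    have hproj : ∀ i, Projective (Zc E (i + 1)) := fun i =>
      Projective.of_iso (eY' (i + 1)) (hP.projective_F (hY (i + 1)))
    have hepi : ∀ i, Epi (tZ E i) := fun i => (shortExact_tZ hEa i).epi_g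
    exact ⟨fun i => @Projective.factorThru _ _ _ _ _ (hproj i) (𝟙 _) (tZ E i) (hepi i),
      fun i => @Projective.factorThru_comp _ _ _ _ _ (hproj i) (𝟙 _) (tZ E i) (hepi i)⟩
  let φ : ∀ i, (F I).obj (O i) ⟶ E.X i := fun i =>
    (F I).map (π₁ i) ≫ (eY' i).hom ≫ kernel.ι (E.d i (i + 1)) +
      (F I).map (π₂ i) ≫ (eY' (i + 1)).hom ≫ s i
  have hφ : ∀ i, IsIso (φ i) := fun i => by
    let σ : (ShortComplex.mk _ _ (kι_tZ E i)).Splitting :=
      ShortComplex.Splitting.ofExactOfSection _ (shortExact_tZ hEa i).exact (s i) (hs i) (shortExact_tZ hEa i).mono_f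
    refine ⟨σ.r ≫ (eY' i).inv ≫ (F I).map (j₁ i) + tZ E i ≫ (eY' (i + 1)).inv ≫ (F I).map (j₂ i), ?_, ?_⟩
    · have hr : kernel.ι (E.d i (i + 1)) ≫ σ.r = 𝟙 _ := σ.f_r
      have hsr : s i ≫ σ.r = 0 := σ.s_r
      simp only [φ, Preadditive.comp_add, Preadditive.add_comp, Category.assoc]
      rw [reassoc_of% hr, reassoc_of% hsr, reassoc_of% (kι_tZ E i), reassoc_of% (hs i)]
      simp only [zero_comp, comp_zero, add_zero, zero_add, Iso.hom_inv_id_assoc, ← Functor.map_comp, ← Functor.map_add]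
      rw [← CategoryTheory.Functor.map_id]
      congr 1
      refine ModuleCat.hom_ext (LinearMap.ext fun x => ?_)
      exact Prod.ext (add_zero _) (zero_add _)
    · have hid : σ.r ≫ kernel.ι (E.d i (i + 1)) + tZ E i ≫ s i = 𝟙 _ := σ.id
      have h11 : (F I).map (j₁ i) ≫ (F I).map (π₁ i) = 𝟙 _ := by
        rw [← Functor.map_comp, ← CategoryTheory.Functor.map_id]; rfl
      have h12 : (F I).map (j₁ i) ≫ (F I).map (π₂ i) = 0 := by
        rw [← Functor.map_comp, ← Functor.map_zero (F I)]; rfl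
      have h21 : (F I).map (j₂ i) ≫ (F I).map (π₁ i) = 0 := by
        rw [← Functor.map_comp, ← Functor.map_zero (F I)]; rfl
      have h22 : (F I).map (j₂ i) ≫ (F I).map (π₂ i) = 𝟙 _ := by
        rw [← Functor.map_comp, ← CategoryTheory.Functor.map_id]; rfl
      simp only [φ, Preadditive.comp_add, Preadditive.add_comp, Category.assoc, reassoc_of% h11, reassoc_of% h12,
        reassoc_of% h21, reassoc_of% h22, zero_comp, comp_zero, add_zero, zero_add, Iso.inv_hom_id_assoc]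
      exact hid
  have hcomm : ∀ i, φ i ≫ E.d i (i + 1) = (F I).map (δ i) ≫ φ (i + 1) := fun i => by
    have hd : E.d i (i + 1) = tZ E i ≫ kernel.ι (E.d (i + 1) (i + 1 + 1)) := (kernel.lift_ι _ _ _).symm
    have h11 : (F I).map (j₁ (i + 1)) ≫ (F I).map (π₁ (i + 1)) = 𝟙 _ := by
      rw [← Functor.map_comp, ← CategoryTheory.Functor.map_id]; rfl
    have h12 : (F I).map (j₁ (i + 1)) ≫ (F I).map (π₂ (i + 1)) = 0 := by
      rw [← Functor.map_comp, ← Functor.map_zero (F I)]; rfl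
    simp only [φ, δ, Functor.map_comp, Preadditive.comp_add, Preadditive.add_comp, Category.assoc,
      reassoc_of% h11, reassoc_of% h12, zero_comp, comp_zero, add_zero, kernel.condition, zero_add]
    rw [hd, reassoc_of% (hs i)]
  refine ⟨P, b, fun i hi => ?_, fun i => ?_, hprod, ⟨HomologicalComplex.Hom.isoOfComponents
    (fun i => @asIso _ _ _ _ (φ i) (hφ i)) ?_⟩⟩
  · have h1 : ∀ j, b < j → Subsingleton (Y j) := fun j hj => ModuleCat.subsingleton_of_isZero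
      (hP.isZero_of_isZero (hY j) ((IsZero.of_mono (kernel.ι (E.d j (j + 1))) (hEb j hj)).of_iso (eY' j)))
    have := h1 i hi
    have := h1 (i + 1) (by omega)
    exact ModuleCat.isZero_of_subsingleton (ModuleCat.of R (Y i × Y (i + 1)))
  · obtain ⟨j, rfl⟩ : ∃ j, i = j + 1 := ⟨i - 1, by omega⟩
    rw [P.exactAt_iff' j (j + 1) (j + 1 + 1) (by simp) (by simp), ShortComplex.moduleCat_exact_iff]
    intro x hx
    have hx' : (δ (j + 1)).hom x = 0 := by rw [← hPd]; exact hx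
    have h2 : (x : Y (j + 1) × Y (j + 1 + 1)).2 = 0 := congrArg Prod.fst hx'
    refine ⟨((0, (x : Y (j + 1) × Y (j + 1 + 1)).1) : Y j × Y (j + 1)), ?_⟩
    show (P.d j (j + 1)).hom _ = x
    rw [hPd]
    exact Prod.ext rfl h2.symm
  · rintro i _ rfl
    show φ i ≫ E.d i (i + 1) = (F I).map (P.d i (i + 1)) ≫ φ (i + 1)
    rw [hPd]
    exact hcomm i

end Groth.Agent.H4Lift
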