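import Groth.Prelude.Def_DRing2
import Mathlib.Algebra.Category.ModuleCat.ChangeOfRings
import Mathlib.Algebra.Category.ModuleCat.Biproducts
import Mathlib.Algebra.Homology.ShortComplex.ExactFunctor
import Mathlib.CategoryTheory.Adjunction.Additive

/-!
# Lifting projective modules and their maps modulo an ideal
-/

set_option autoImplicit false

universe u

open CategoryTheory CategoryTheory.Limits

noncomputable section

namespace Groth.Agent.H4Lift

variable {R : Type u} [CommRing R] (I : Ideal R)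

/-- Reduction modulo `I`. -/
abbrev F : ModuleCat.{u} R ⥤ ModuleCat.{u} (R ⧸ I) :=
  ModuleCat.extendScalars.{u, u, u} (Ideal.Quotient.mk I)

/-- The adjunction of reduction with restriction. -/
abbrev adj : F I ⊣ ModuleCat.restrictScalars.{u} (Ideal.Quotient.mk I) :=
  ModuleCat.extendRestrictScalarsAdj.{u, u, u} (Ideal.Quotient.mk I)

instance : (F I).Additive := (adj I).left_adjoint_additive

theorem unit_surjective (X : ModuleCat.{u} R) : Function.Surjective ((adj I).unit.app X).hom := by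
  intro z
  induction z using TensorProduct.induction_on with
  | zero => exact ⟨0, map_zero _⟩
  | add a b ha hb =>
    obtain ⟨x, rfl⟩ := ha
    obtain ⟨y, rfl⟩ := hb
    exact ⟨x + y, map_add _ _ _⟩
  | tmul r x =>
    obtain ⟨r, rfl⟩ := Ideal.Quotient.mk_surjective r
    refine ⟨r • x, ?_⟩
    letI := (Ideal.Quotient.mk I).toAlgebra
    show ((1 : R ⧸ I) ⊗ₜ[R] (r • x) : TensorProduct R (R ⧸ I) X) = (Ideal.Quotient.mk I r) ⊗ₜ[R] x
    rw [← TensorProduct.smul_tmul, show r • (1 : R ⧸ I) = Ideal.Quotient.mk I r from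
      congrArg (Ideal.Quotient.mk I) (mul_one r)]

theorem exists_lift (X Y : ModuleCat.{u} R) [Projective X] (g : (F I).obj X ⟶ (F I).obj Y) :
    ∃ f : X ⟶ Y, (F I).map f = g := by
  have : Epi ((adj I).unit.app Y) := (ModuleCat.epi_iff_surjective _).2 (unit_surjective I Y)
  refine ⟨Projective.factorThru ((adj I).homEquiv _ _ g) ((adj I).unit.app Y), ?_⟩
  apply ((adj I).homEquiv _ _).injective
  rw [Adjunction.homEquiv_unit]
  exact ((adj I).unit.naturality _).symm.trans (Projective.factorThru_comp _ _)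

theorem mem_smul_of_unit_eq_zero {Y : ModuleCat.{u} R} {y : Y} (h0 : ((adj I).unit.app Y).hom y = 0) :
    y ∈ I • (⊤ : Submodule R Y) := by
  let Q := ModuleCat.of (R ⧸ I) (Y ⧸ (I • (⊤ : Submodule R Y)))
  let q : Y ⟶ (ModuleCat.restrictScalars.{u} (Ideal.Quotient.mk I)).obj Q :=
    ModuleCat.ofHom (Y := (ModuleCat.restrictScalars.{u} (Ideal.Quotient.mk I)).obj Q)
      { toFun := fun y => Submodule.Quotient.mk y
        map_add' := fun _ _ => rfl
        map_smul' := fun _ _ => rfl }
  have hq : (adj I).unit.app Y ≫ (ModuleCat.restrictScalars.{u} (Ideal.Quotient.mk I)).map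
      (((adj I).homEquiv _ _).symm q) = q :=
    (Adjunction.homEquiv_unit (adj I) _ _ _).symm.trans (Equiv.apply_symm_apply _ _)
  have := LinearMap.congr_fun (congrArg ModuleCat.Hom.hom hq) y
  rw [ModuleCat.hom_comp, LinearMap.comp_apply, h0, map_zero] at this
  exact (Submodule.Quotient.mk_eq_zero _).1 this.symm

theorem sup_eq_top {X Y : ModuleCat.{u} R} (f : X ⟶ Y) [Epi ((F I).map f)] :
    LinearMap.range f.hom ⊔ I • (⊤ : Submodule R Y) = ⊤ := by
  refine eq_top_iff.2 fun y _ => ?_
  obtain ⟨z, hz⟩ := (ModuleCat.epi_iff_surjective ((F I).map f)).1 inferInstance (((adj I).unit.app Y).hom y)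
  obtain ⟨x, rfl⟩ := unit_surjective I X z
  refine Submodule.mem_sup.2 ⟨f.hom x, ⟨x, rfl⟩, y - f.hom x, ?_, add_sub_cancel _ _⟩
  have hn := LinearMap.congr_fun (congrArg ModuleCat.Hom.hom ((adj I).unit.naturality f)) x
  have h0 : ((adj I).unit.app Y).hom (y - f.hom x) = 0 := by
    rw [map_sub, sub_eq_zero]
    exact hz.symm.trans hn.symm
  exact mem_smul_of_unit_eq_zero I h0

/-- A class of projective modules suitable for lifting. -/
structure Good (Pc : ObjectProperty (ModuleCat.{u} R)) : Prop where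
  proj : ∀ X : ModuleCat.{u} R, Pc X → Module.Projective R X
  split : ∀ X Y : ModuleCat.{u} R, Pc X → Pc (ModuleCat.of R (X × Y)) → Pc Y
  nak : ∀ (X Y : ModuleCat.{u} R) (f : X ⟶ Y), Pc X → Pc Y →
      LinearMap.range f.hom ⊔ I • (⊤ : Submodule R Y) = ⊤ → Function.Surjective f.hom

variable {I} {Pc : ObjectProperty (ModuleCat.{u} R)} [Pc.IsClosedUnderIsomorphisms] (hP : Good I Pc)

include hP

omit [Pc.IsClosedUnderIsomorphisms] in
theorem Good.projective {X : ModuleCat.{u} R} (h : Pc X) : Projective X :=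
  have := hP.proj X h
  (IsProjective.iff_projective (R := R) X).1 inferInstance

omit [Pc.IsClosedUnderIsomorphisms] in
theorem Good.projective_F {X : ModuleCat.{u} R} (h : Pc X) : Projective ((F I).obj X) :=
  have := hP.projective h
  (adj I).map_projective X inferInstance

omit [Pc.IsClosedUnderIsomorphisms] in
theorem Good.epi_of_epi {X Y : ModuleCat.{u} R} (hX : Pc X) (hY : Pc Y) (f : X ⟶ Y) [Epi ((F I).map f)] :
    Epi f :=
  (ModuleCat.epi_iff_surjective f).2 (hP.nak X Y f hX hY (sup_eq_top I f))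

theorem Good.pc_zero {X Z : ModuleCat.{u} R} (hX : Pc X) (hZ : IsZero Z) : Pc Z := by
  have : Subsingleton Z := ModuleCat.subsingleton_of_isZero hZ
  refine hP.split X Z hX (Pc.prop_of_iso (LinearEquiv.toModuleIso ?_) hX)
  exact { toFun := fun x => (x, 0)
          invFun := fun p => p.1
          map_add' := fun x y => by simp
          map_smul' := fun r x => by simp
          left_inv := fun x => rfl
          right_inv := fun p => Prod.ext rfl (Subsingleton.elim _ _) }

theorem Good.isZero_of_isZero {X : ModuleCat.{u} R} (hX : Pc X) (h : IsZero ((F I).obj X)) : IsZero X := by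
  let Z : ModuleCat.{u} R := ModuleCat.of R PUnit
  have hZ : IsZero Z := ModuleCat.isZero_of_subsingleton Z
  have : Epi ((F I).map (0 : Z ⟶ X)) := ⟨fun a b _ => h.eq_of_src a b⟩
  have := hP.epi_of_epi (hP.pc_zero hX hZ) hX (0 : Z ⟶ X)
  exact IsZero.of_epi (0 : Z ⟶ X) hZ

/-- The kernel of a surjection of the class, split. -/
theorem Good.exists_ker {X Y : ModuleCat.{u} R} (hX : Pc X) (hY : Pc Y) (g : X ⟶ Y) [Epi g] :
    ∃ (K : ModuleCat.{u} R) (ι : K ⟶ X) (w : ι ≫ g = 0),
      Pc K ∧ Nonempty (ShortComplex.mk ι g w).Splitting := by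
  have := hP.projective hY
  let S := ShortComplex.mk (kernel.ι g) g (kernel.condition g)
  have hS : S.Exact := S.exact_of_f_is_kernel (kernelIsKernel g)
  have hm : Mono S.f := inferInstanceAs (Mono (kernel.ι g))
  have : Mono S.f := hm
  let σ : S.Splitting := ShortComplex.Splitting.ofExactOfSection S hS (Projective.factorThru (𝟙 Y) g)
    (Projective.factorThru_comp _ _) hm
  refine ⟨_, kernel.ι g, kernel.condition g, hP.split Y _ hY ?_, ⟨σ⟩⟩
  exact Pc.prop_of_iso (σ.isoBinaryBiproduct ≪≫ ModuleCat.biprodIsoProd _ _ ≪≫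
    (LinearEquiv.prodComm R _ _).toModuleIso) hX

theorem Good.isIso_of_isIso {X Y : ModuleCat.{u} R} (hX : Pc X) (hY : Pc Y) (g : X ⟶ Y)
    [IsIso ((F I).map g)] : IsIso g := by
  have := hP.epi_of_epi hX hY g
  obtain ⟨K, ι, w, hK, ⟨σ⟩⟩ := hP.exists_ker hX hY g
  have h0 : (F I).map ι = 0 := by
    rw [← cancel_mono ((F I).map g), ← Functor.map_comp, w, Functor.map_zero, zero_comp]
  have hKz : IsZero ((F I).obj K) := by
    refine (IsZero.iff_id_eq_zero _).2 ?_
    have h1 : ι ≫ σ.r = 𝟙 K := σ.f_r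
    rw [← CategoryTheory.Functor.map_id, ← h1, Functor.map_comp, h0, zero_comp]
  have hι : ι = 0 := (hP.isZero_of_isZero hK hKz).eq_of_src _ _
  refine ⟨σ.s, ?_, σ.s_g⟩
  have h2 := σ.id
  simp only [hι, comp_zero, zero_add] at h2
  exact h2

theorem Good.nonempty_iso {X Y : ModuleCat.{u} R} (hX : Pc X) (hY : Pc Y) (e : (F I).obj X ≅ (F I).obj Y) :
    ∃ f : X ≅ Y, (F I).map f.hom = e.hom := by
  have := hP.projective hX
  obtain ⟨f, hf⟩ := exists_lift I X Y e.hom
  have : IsIso ((F I).map f) := hf ▸ inferInstance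
  have := hP.isIso_of_isIso hX hY f
  exact ⟨asIso f, hf⟩

/-- Lifting the kernel of a surjection between reductions. -/
theorem Good.exists_ker_lift {X Y : ModuleCat.{u} R} (hX : Pc X) (hY : Pc Y)
    (S : ShortComplex (ModuleCat.{u} (R ⧸ I))) (hS : S.ShortExact) (eX : (F I).obj X ≅ S.X₂)
    (eY : (F I).obj Y ≅ S.X₃) :
    ∃ K : ModuleCat.{u} R, Pc K ∧ Pc (ModuleCat.of R (K × Y)) ∧ Nonempty ((F I).obj K ≅ S.X₁) := by
  have := hP.projective hX
  have := hS.epi_g
  have := hS.mono_f
  obtain ⟨g, hg⟩ := exists_lift I X Y (eX.hom ≫ S.g ≫ eY.inv)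
  have : Epi ((F I).map g) := by rw [hg]; infer_instance
  have := hP.epi_of_epi hX hY g
  obtain ⟨K, ι, w, hK, ⟨σ⟩⟩ := hP.exists_ker hX hY g
  refine ⟨K, hK, Pc.prop_of_iso (σ.isoBinaryBiproduct ≪≫ ModuleCat.biprodIsoProd _ _) hX, ⟨?_⟩⟩
  let σ' := σ.map (F I)
  let S' : ShortComplex (ModuleCat.{u} (R ⧸ I)) := ShortComplex.mk ((F I).map ι) ((F I).map g)
    (by rw [← Functor.map_comp, w, Functor.map_zero])
  have hS' : S'.ShortExact := σ'.shortExact
  have := hS'.mono_f
  have h1 : (F I).map g ≫ eY.hom = eX.hom ≫ S.g := by rw [hg]; simp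
  have wa : ((F I).map ι ≫ eX.hom) ≫ S.g = 0 := by
    rw [Category.assoc, ← h1, ← Category.assoc, ← Functor.map_comp, w, Functor.map_zero, zero_comp]
  have wb : (S.f ≫ eX.inv) ≫ S'.g = 0 := by
    show (S.f ≫ eX.inv) ≫ (F I).map g = 0
    rw [hg]; simp
  exact { hom := hS.exact.lift _ wa
          inv := hS'.exact.lift _ wb
          hom_inv_id := by
            rw [← cancel_mono S'.f, Category.assoc, ShortComplex.Exact.lift_f, ← Category.assoc,
              ShortComplex.Exact.lift_f, Category.assoc, Iso.hom_inv_id, Category.comp_id]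
            exact (Category.id_comp _).symm
          inv_hom_id := by
            rw [← cancel_mono S.f, Category.assoc, ShortComplex.Exact.lift_f]
            refine (Category.assoc _ _ _).symm.trans ?_
            show (hS'.exact.lift _ wb ≫ S'.f) ≫ eX.hom = _
            rw [ShortComplex.Exact.lift_f]
            simp }

end Groth.Agent.H4Lift
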