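import Groth.Agent.H4Lift.Main
import Mathlib.Algebra.Module.StablyFree.Basic
import Mathlib.RingTheory.Nakayama
import Mathlib.RingTheory.Idempotents
import Mathlib.LinearAlgebra.TensorProduct.Pi

/-!
# Classes of projective modules suitable for lifting
-/

set_option autoImplicit false

universe u

open CategoryTheory CategoryTheory.Limits

noncomputable section

namespace Groth.Agent.H4Lift

variable (R : Type u) [CommRing R]

/-- Projective modules. -/
def PR : ObjectProperty (ModuleCat.{u} R) := fun X => Module.Projective R X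

/-- Finite projective modules. -/
def FP : ObjectProperty (ModuleCat.{u} R) := fun X => Module.Finite R X ∧ Module.Projective R X

/-- Finite stably free modules. -/
def SF : ObjectProperty (ModuleCat.{u} R) := fun X => Module.Finite R X ∧ Module.IsStablyFree R X

instance : (PR R).IsClosedUnderIsomorphisms where
  of_iso e h := haveI : Module.Projective R _ := h; Module.Projective.of_equiv e.toLinearEquiv

instance : (FP R).IsClosedUnderIsomorphisms where
  of_iso e h := ⟨haveI := h.1; Module.Finite.equiv e.toLinearEquiv,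
    haveI := h.2; Module.Projective.of_equiv e.toLinearEquiv⟩

instance : (SF R).IsClosedUnderIsomorphisms where
  of_iso e h := ⟨haveI := h.1; Module.Finite.equiv e.toLinearEquiv,
    haveI := h.2; Module.IsStablyFree.equiv e.toLinearEquiv⟩

variable {R} {I : Ideal R}

theorem surjective_of_le_jacobson (hI : I ≤ Ideal.jacobson (⊥ : Ideal R)) {X Y : ModuleCat.{u} R}
    [Module.Finite R Y] (f : X ⟶ Y) (h : LinearMap.range f.hom ⊔ I • (⊤ : Submodule R Y) = ⊤) :
    Function.Surjective f.hom :=
  LinearMap.range_eq_top.1 (top_le_iff.1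
    (Submodule.le_of_le_smul_of_le_jacobson_bot Module.Finite.fg_top hI h.ge))

theorem projective_snd {X Y : ModuleCat.{u} R} (h : Module.Projective R (X × Y)) : Module.Projective R Y :=
  Module.Projective.of_split (LinearMap.inr R X Y) (LinearMap.snd R X Y) (LinearMap.ext fun _ => rfl)

theorem good_PR (hI : IsNilpotent I) : Good I (PR R) where
  proj _ h := h
  split X Y _ h := projective_snd h
  nak X Y f _ _ h := by
    have key : ∀ k : ℕ, (⊤ : Submodule R Y) ≤ LinearMap.range f.hom ⊔ I ^ k • ⊤ := fun k => by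
      induction k with
      | zero => rw [pow_zero, Ideal.one_eq_top, Submodule.top_smul, sup_top_eq]
      | succ k ih =>
        refine ih.trans (sup_le le_sup_left ?_)
        conv_lhs => rw [← h]
        rw [Submodule.smul_sup, pow_succ, Submodule.mul_smul]
        exact sup_le (Submodule.smul_le_right.trans le_sup_left) le_sup_right
    obtain ⟨k, hk⟩ := hI
    have := key k
    rw [hk, Submodule.zero_eq_bot, Submodule.bot_smul, sup_bot_eq] at this
    exact LinearMap.range_eq_top.1 (top_le_iff.1 this)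

theorem good_FP (hI : I ≤ Ideal.jacobson (⊥ : Ideal R)) : Good I (FP R) where
  proj _ h := h.2
  split X Y _ h := ⟨haveI : Module.Finite R (X × Y) := h.1
    Module.Finite.of_surjective (LinearMap.snd R X Y) LinearMap.snd_surjective, projective_snd h.2⟩
  nak X Y f _ hY h := haveI := hY.1; surjective_of_le_jacobson hI f h

theorem good_SF (hI : I ≤ Ideal.jacobson (⊥ : Ideal R)) : Good I (SF R) where
  proj _ h := haveI := h.2; inferInstance
  nak X Y f _ hY h := haveI := hY.1; surjective_of_le_jacobson hI f h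
  split X Y hX h := by
    have := hX.1
    have := hX.2
    have hfin : Module.Finite R (X × Y) := h.1
    have hsf : Module.IsStablyFree R (X × Y) := h.2
    refine ⟨Module.Finite.of_surjective (LinearMap.snd R X Y) LinearMap.snd_surjective, ?_⟩
    obtain ⟨N, _, _, _, _, _⟩ := Module.IsStablyFree.exist_free_prod R (X × Y)
    obtain ⟨M, _, _, _, _, _⟩ := Module.IsStablyFree.exist_free_prod R X
    let e : (((X × Y) × N) × M) ≃ₗ[R] Y × ((X × M) × N) :=
      { toFun := fun p => (p.1.1.2, (p.1.1.1, p.2), p.1.2)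
        invFun := fun q => (((q.2.1.1, q.1), q.2.2), q.2.1.2)
        map_add' := fun _ _ => rfl
        map_smul' := fun _ _ => rfl
        left_inv := fun _ => rfl
        right_inv := fun _ => rfl }
    haveI : Module.Free R (Y × ((X × M) × N)) := Module.Free.of_equiv e
    exact Module.IsStablyFree.of_free_prod R Y ((X × M) × N)

theorem prod_PR (X Y : ModuleCat.{u} R) (hX : PR R X) (hY : PR R Y) : PR R (ModuleCat.of R (X × Y)) := by
  have : Module.Projective R X := hX
  have : Module.Projective R Y := hY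
  exact inferInstanceAs (Module.Projective R (X × Y))

theorem prod_FP (X Y : ModuleCat.{u} R) (hX : FP R X) (hY : FP R Y) : FP R (ModuleCat.of R (X × Y)) := by
  have := hX.1
  have := hX.2
  have := hY.1
  have := hY.2
  exact ⟨inferInstanceAs (Module.Finite R (X × Y)), inferInstanceAs (Module.Projective R (X × Y))⟩

theorem prod_SF (X Y : ModuleCat.{u} R) (hX : SF R X) (hY : SF R Y) : SF R (ModuleCat.of R (X × Y)) := by
  have := hX.1
  have := hX.2
  have := hY.1
  have := hY.2
  obtain ⟨N, _, _, _, _, _⟩ := Module.IsStablyFree.exist_free_prod R X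
  obtain ⟨M, _, _, _, _, _⟩ := Module.IsStablyFree.exist_free_prod R Y
  let e : ((X × N) × (Y × M)) ≃ₗ[R] (X × Y) × (N × M) :=
    { toFun := fun p => ((p.1.1, p.2.1), p.1.2, p.2.2)
      invFun := fun q => ((q.1.1, q.2.1), q.1.2, q.2.2)
      map_add' := fun _ _ => rfl
      map_smul' := fun _ _ => rfl
      left_inv := fun _ => rfl
      right_inv := fun _ => rfl }
  haveI : Module.Free R ((X × Y) × (N × M)) := Module.Free.of_equiv e
  exact ⟨inferInstanceAs (Module.Finite R (X × Y)), Module.IsStablyFree.of_free_prod R (X × Y) (N × M)⟩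

/-- The reduction of a finite free module. -/
theorem exists_free_iso (M : ModuleCat.{u} (R ⧸ I)) [Module.Finite (R ⧸ I) M] [Module.Free (R ⧸ I) M] :
    ∃ n : ℕ, Nonempty ((F I).obj (ModuleCat.of R (Fin n → R)) ≅ M) := by
  classical
  let b := Module.Free.chooseBasis (R ⧸ I) M
  haveI : Fintype (Module.Free.ChooseBasisIndex (R ⧸ I) M) := inferInstance
  let b' := b.reindex (Fintype.equivFin _)
  exact ⟨_, ⟨LinearEquiv.toModuleIso ((TensorProduct.piScalarRight R (R ⧸ I) (R ⧸ I) (Fin _)).trans b'.equivFun.symm)⟩⟩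

/-- Free reductions come from free modules. -/
theorem Good.free_of_free {Pc : ObjectProperty (ModuleCat.{u} R)} [Pc.IsClosedUnderIsomorphisms]
    (hP : Good I Pc) (hfree : ∀ n : ℕ, Pc (ModuleCat.of R (Fin n → R))) {X : ModuleCat.{u} R} (hX : Pc X)
    [Module.Finite R X] (M : ModuleCat.{u} (R ⧸ I)) (e : (F I).obj X ≅ M) [Module.Free (R ⧸ I) M] :
    Module.Free R X := by
  haveI : Module.Finite (R ⧸ I) M :=
    haveI : Module.Finite (R ⧸ I) ((F I).obj X) := Module.Finite.base_change R (R ⧸ I) X
    Module.Finite.equiv e.toLinearEquiv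
  obtain ⟨n, ⟨e'⟩⟩ := exists_free_iso M
  obtain ⟨f, -⟩ := hP.nonempty_iso (hfree n) hX (e' ≪≫ e.symm)
  exact Module.Free.of_equiv f.toLinearEquiv

/-- Stably free modules lift. -/
theorem exists_lift_SF (hI : I ≤ Ideal.jacobson (⊥ : Ideal R)) (M : ModuleCat.{u} (R ⧸ I))
    [Module.Finite (R ⧸ I) M] [Module.IsStablyFree (R ⧸ I) M] :
    ∃ X : ModuleCat.{u} R, SF R X ∧ Nonempty ((F I).obj X ≅ M) := by
  obtain ⟨N, _, _, _, _, _⟩ := Module.IsStablyFree.exist_free_prod (R ⧸ I) M
  obtain ⟨m, ⟨eN⟩⟩ := exists_free_iso (I := I) (ModuleCat.of (R ⧸ I) N)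
  obtain ⟨n, ⟨eMN⟩⟩ := exists_free_iso (I := I) (ModuleCat.of (R ⧸ I) (M × N))
  have hfree : ∀ k : ℕ, SF R (ModuleCat.of R (Fin k → R)) := fun k =>
    ⟨inferInstanceAs (Module.Finite R (Fin k → R)), inferInstanceAs (Module.IsStablyFree R (Fin k → R))⟩
  let S : ShortComplex (ModuleCat.{u} (R ⧸ I)) :=
    ShortComplex.mk (X₁ := M) (ModuleCat.ofHom (LinearMap.inl (R ⧸ I) M N))
      (ModuleCat.ofHom (LinearMap.snd (R ⧸ I) M N)) (ModuleCat.hom_ext (LinearMap.ext fun _ => rfl))
  have hS : S.ShortExact :=
    { exact := (ShortComplex.moduleCat_exact_iff S).2 fun x hx => ⟨(x : M × N).1, Prod.ext rfl hx.symm⟩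
      mono_f := (ModuleCat.mono_iff_injective _).2 LinearMap.inl_injective
      epi_g := (ModuleCat.epi_iff_surjective _).2 LinearMap.snd_surjective }
  obtain ⟨K, hK, -, ⟨e⟩⟩ := (good_SF hI).exists_ker_lift (hfree n) (hfree m) S hS eMN eN
  exact ⟨K, hK, ⟨e⟩⟩

/-- Projective modules lift along nilpotent ideals. -/
theorem exists_lift_PR (hI : IsNilpotent I) (M : ModuleCat.{u} (R ⧸ I)) [Module.Projective (R ⧸ I) M] :
    ∃ X : ModuleCat.{u} R, PR R X ∧ Nonempty ((F I).obj X ≅ M) := by
  let Y : ModuleCat.{u} R := ModuleCat.of R (M →₀ R)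
  haveI : Module.Projective R Y := inferInstanceAs (Module.Projective R (M →₀ R))
  haveI : Projective Y := (IsProjective.iff_projective (R := R) Y).1 inferInstance
  let RM := (ModuleCat.restrictScalars.{u} (Ideal.Quotient.mk I)).obj M
  let g : Y ⟶ RM := ModuleCat.ofHom (Y := RM) (Finsupp.linearCombination R fun x : RM => x)
  let q : (F I).obj Y ⟶ M := ((adj I).homEquiv _ _).symm g
  have hq : Function.Surjective q.hom := fun x => by
    obtain ⟨y, hy⟩ := Finsupp.linearCombination_surjective R (v := fun x : RM => x) Function.surjective_id x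
    refine ⟨((adj I).unit.app Y).hom y, ?_⟩
    have h1 : (adj I).unit.app Y ≫ (ModuleCat.restrictScalars.{u} (Ideal.Quotient.mk I)).map q = g :=
      (Adjunction.homEquiv_unit (adj I) _ _ _).symm.trans (Equiv.apply_symm_apply _ _)
    exact (LinearMap.congr_fun (congrArg ModuleCat.Hom.hom h1) y).trans hy
  haveI : Epi q := (ModuleCat.epi_iff_surjective q).2 hq
  haveI : Projective M := (IsProjective.iff_projective (R := R ⧸ I) M).1 inferInstance
  let s : M ⟶ (F I).obj Y := Projective.factorThru (𝟙 M) q
  have hs : s ≫ q = 𝟙 M := Projective.factorThru_comp _ _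
  let Φ : End Y →+* End ((F I).obj Y) :=
    { toFun := fun a => (F I).map a
      map_one' := (F I).map_id Y
      map_mul' := fun a b => (F I).map_comp b a
      map_zero' := (F I).map_zero Y Y
      map_add' := fun _ _ => (F I).map_add }
  have hpow : ∀ a : End Y, (F I).map (show Y ⟶ Y from a) = 0 →
      ∀ (k : ℕ) (y : Y), (a ^ k : End Y).hom y ∈ I ^ k • (⊤ : Submodule R Y) := by
    intro a ha k
    induction k with
    | zero => intro y; rw [pow_zero, pow_zero, Ideal.one_eq_top, Submodule.top_smul]; exact Submodule.mem_top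
    | succ k ih =>
      intro y
      rw [pow_succ' a k, End.mul_def, ModuleCat.hom_comp, LinearMap.comp_apply, pow_succ, Submodule.mul_smul]
      have hrange : ∀ z, (show Y ⟶ Y from a).hom z ∈ I • (⊤ : Submodule R Y) := fun z => by
        have h1 : ((adj I).unit.app Y).hom ((show Y ⟶ Y from a).hom z) = 0 := by
          have := LinearMap.congr_fun (congrArg ModuleCat.Hom.hom ((adj I).unit.naturality (show Y ⟶ Y from a))) z
          refine this.trans ?_
          show ((ModuleCat.restrictScalars.{u} (Ideal.Quotient.mk I)).map ((F I).map (show Y ⟶ Y from a))).hom (((adj I).unit.app Y).hom z) = 0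
          rw [ha, Functor.map_zero]
          rfl
        exact mem_smul_of_unit_eq_zero I h1
      have hle : (I ^ k • (⊤ : Submodule R Y)) ≤ Submodule.comap (show Y ⟶ Y from a).hom (I ^ k • (I • ⊤)) := by
        refine Submodule.smul_le.2 fun r hr z _ => ?_
        rw [Submodule.mem_comap, map_smul]
        exact Submodule.smul_mem_smul hr (hrange z)
      exact hle (ih y)
  obtain ⟨E, hE, hEe⟩ := exists_isIdempotentElem_eq_of_ker_isNilpotent Φ (fun a ha => by
      obtain ⟨k, hk⟩ := hI
      refine ⟨k, ModuleCat.hom_ext (LinearMap.ext fun y => ?_)⟩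
      have := hpow a ha k y
      rw [hk, Submodule.zero_eq_bot, Submodule.bot_smul, Submodule.mem_bot] at this
      exact this) (q ≫ s) (by
      obtain ⟨a, ha⟩ := exists_lift I Y Y (q ≫ s)
      exact ⟨a, ha⟩) (by
      show (q ≫ s) ≫ (q ≫ s) = q ≫ s
      rw [Category.assoc, ← Category.assoc s q s, hs, Category.id_comp])
  let L : (Y : Type u) →ₗ[R] Y := (show Y ⟶ Y from E).hom
  have hLL : ∀ v, L (L v) = L v := fun v => LinearMap.congr_fun (congrArg ModuleCat.Hom.hom hE.eq) v
  let X : ModuleCat.{u} R := ModuleCat.of R (LinearMap.range L)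
  let ι : X ⟶ Y := ModuleCat.ofHom (LinearMap.range L).subtype
  let p : Y ⟶ X := ModuleCat.ofHom L.rangeRestrict
  have hιp : ι ≫ p = 𝟙 X := ModuleCat.hom_ext (LinearMap.ext fun ⟨x, v, hv⟩ =>
    Subtype.ext (by subst hv; exact hLL v))
  have hpι : p ≫ ι = (show Y ⟶ Y from E) := ModuleCat.hom_ext (LinearMap.ext fun _ => rfl)
  refine ⟨X, Module.Projective.of_split ι.hom p.hom (congrArg ModuleCat.Hom.hom hιp),
    ⟨{ hom := (F I).map ι ≫ q, inv := s ≫ (F I).map p, hom_inv_id := ?_, inv_hom_id := ?_ }⟩⟩
  · rw [Category.assoc, ← Category.assoc q s, show q ≫ s = (F I).map (p ≫ ι) from hpι ▸ hEe.symm,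
      ← Functor.map_comp, Category.assoc, hιp, Category.comp_id, ← Functor.map_comp, hιp]
    exact (F I).map_id X
  · rw [Category.assoc, ← Category.assoc ((F I).map p), ← Functor.map_comp,
      show (F I).map (p ≫ ι) = q ≫ s from hpι ▸ hEe, Category.assoc, hs, Category.comp_id, hs]

end Groth.Agent.H4Lift
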