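import Groth.Agent.H4Lift.Acyclic
import Groth.Agent.H4DR.TorAmp.Derived
import Groth.Agent.H4DR.Dualizing.Compare
import Groth.Agent.H16Derived.ProjLift
import Mathlib.Algebra.Homology.HomotopyCategory.DegreewiseSplit
import Mathlib.Algebra.Homology.DerivedCategory.ShortExact

/-!
# Lifting representatives of derived reductions
-/

set_option autoImplicit false

universe u

open CategoryTheory CategoryTheory.Limits

attribute [local instance] HasDerivedCategory.standard

noncomputable section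

namespace Groth.Agent.H4Lift

theorem cancel_mid {D : Type*} [Category D] {A B C : D} (a : A ⟶ B) (h : C ⟶ B) (h' : B ⟶ C) (s : B ⟶ A)
    (hh : h' ≫ h = 𝟙 B) (hs : a ≫ s = 𝟙 A) : (a ≫ h') ≫ h ≫ s = 𝟙 A := by
  rw [Category.assoc, reassoc_of% hh, hs]

/-- Short exact sequences with the same first two terms have isomorphic third terms. -/
def cokIso {D : Type*} [Category D] [Abelian D] (S T : ShortComplex D) (hS : S.ShortExact) (hT : T.ShortExact)
    (a : S.X₁ ≅ T.X₁) (e : S.X₂ ≅ T.X₂) (hf : S.f ≫ e.hom = a.hom ≫ T.f) : S.X₃ ≅ T.X₃ :=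
  haveI := hS.epi_g
  haveI := hT.epi_g
  { hom := hS.exact.desc (e.hom ≫ T.g) (by rw [reassoc_of% hf, T.zero, comp_zero])
    inv := hT.exact.desc (e.inv ≫ S.g) (by
      rw [← cancel_epi a.hom, ← reassoc_of% hf, Iso.hom_inv_id_assoc, S.zero, comp_zero])
    hom_inv_id := by rw [← cancel_epi S.g, ShortComplex.Exact.g_desc_assoc, Category.assoc,
      ShortComplex.Exact.g_desc, Iso.hom_inv_id_assoc, Category.comp_id]
    inv_hom_id := by rw [← cancel_epi T.g, ShortComplex.Exact.g_desc_assoc, Category.assoc,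
      ShortComplex.Exact.g_desc, Iso.inv_hom_id_assoc, Category.comp_id] }

variable {R : Type u} [CommRing R] {I : Ideal R} {Pc : ObjectProperty (ModuleCat.{u} R)}
  [Pc.IsClosedUnderIsomorphisms] (hP : Good I Pc)
  (hprod : ∀ X Y : ModuleCat.{u} R, Pc X → Pc Y → Pc (ModuleCat.of R (X × Y)))

include hP hprod

/-- The representative lifting a complex quasi-isomorphic to the reduction. -/
theorem Good.exists_rep [DRing.HasLBaseChange (Ideal.Quotient.mk I)] (K : Dual.D R) (Q : DRing.Cx R) (c : ℤ)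
    (hQb : DRing.VanishesAbove Q c) (hQ : ∀ i, Pc (Q.X i)) (eK : DRing.toD Q ≅ K) (E : DRing.Cx (R ⧸ I)) (b : ℤ)
    (hEb : DRing.VanishesAbove E b) (hEt : ∀ i : ℤ, ∃ X : ModuleCat.{u} R, Pc X ∧ Nonempty ((F I).obj X ≅ E.X i))
    (eE : DRing.toD E ≅ (DRing.LBaseChange (Ideal.Quotient.mk I)).obj K) :
    ∃ (P : DRing.Cx R) (b' : ℤ), DRing.VanishesAbove P b' ∧ (∀ i : ℤ, Pc (P.X i)) ∧
      Nonempty (DRing.toD P ≅ K) ∧ Nonempty (((F I).mapHomologicalComplex (ComplexShape.up ℤ)).obj P ≅ E) := by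
  let FC := (F I).mapHomologicalComplex (ComplexShape.up ℤ)
  choose X hX eX using hEt
  have hflat : DRing.TermwiseFlat Q := fun i =>
    have := hP.proj _ (hQ i)
    inferInstance
  let e : DRing.toD E ≅ DRing.toD (FC.obj Q) := eE ≪≫ (DRing.LBaseChange (Ideal.Quotient.mk I)).mapIso eK.symm ≪≫
    H4DR.TorAmp.lbaseObj (Ideal.Quotient.mk I) Q (H4DR.TorAmp.isKFlat_of_flat hQb hflat)
  haveI : E.IsKProjective :=
    haveI : E.IsStrictlyLE b := (CochainComplex.isStrictlyLE_iff E b).2 hEb
    haveI : ∀ n, Projective (E.X n) := fun n => Projective.of_iso (eX n).some (hP.projective_F (hX n))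
    CochainComplex.isKProjective_of_projective E b
  haveI : CochainComplex.IsKProjective (FC.obj Q) :=
    haveI : CochainComplex.IsStrictlyLE (FC.obj Q) c :=
      (CochainComplex.isStrictlyLE_iff (FC.obj Q) c).2 fun i hi => (F I).map_isZero (hQb i hi)
    haveI : ∀ n, Projective ((FC.obj Q).X n) := fun n => hP.projective_F (hQ n)
    CochainComplex.isKProjective_of_projective (FC.obj Q) c
  obtain ⟨α, hα⟩ := H16Derived.ProjLift.Q_map_surjective E (FC.obj Q) e.hom
  let Cb := CochainComplex.mappingCone α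
  have hCa : Cb.Acyclic := fun i => by
    have hz : IsZero (DerivedCategory.Q.obj Cb) :=
      Pretriangulated.Triangle.isZero₃_of_isIso₁ _ (DerivedCategory.mappingCone_triangle_distinguished α)
        (show IsIso (DerivedCategory.Q.map α) by rw [hα]; infer_instance)
    rw [← H4DR.TorAmp.subsingleton_HD_toD_iff]
    exact ModuleCat.subsingleton_of_isZero ((DerivedCategory.homologyFunctor _ i).map_isZero hz)
  have hCb : DRing.VanishesAbove Cb (max b c) := fun i hi =>
    (CochainComplex.mappingCone.isZero_X_iff α i).2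
      ⟨hEb (i + 1) (by omega), (F I).map_isZero (hQb i (by omega))⟩
  haveI : PreservesBinaryBiproducts (F I) := preservesBinaryBiproducts_of_preservesBiproducts _
  obtain ⟨C, bC, hCbd, hCac, hC, ⟨eC⟩⟩ := hP.exists_lift_acyclic Cb (max b c) hCb hCa fun i =>
    ⟨ModuleCat.of R ((X (i + 1) : ModuleCat.{u} R) × (Q.X i : ModuleCat.{u} R)), hprod _ _ (hX (i + 1)) (hQ i),
      ⟨(F I).mapIso (ModuleCat.biprodIsoProd (X (i + 1)) (Q.X i)).symm ≪≫ (F I).mapBiprod _ _ ≪≫
        biprod.mapIso (eX (i + 1)).some (Iso.refl _) ≪≫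
        (HomologicalComplex.homotopyCofiber.XIsoBiprod α i (i + 1) rfl).symm⟩⟩
  haveI : ∀ i, Projective (Q.X i) := fun i => hP.projective (hQ i)
  -- the inclusion lifts to a termwise split monomorphism
  let ι : FC.obj Q ⟶ FC.obj C := CochainComplex.mappingCone.inr α ≫ eC.inv
  have hFCac : (FC.obj C).Acyclic := fun i => (hCa i).of_iso eC.symm
  let h := CochainComplex.IsKProjective.homotopyZero ι hFCac
  have hι : ι = Homotopy.nullHomotopicMap h.hom := by
    ext n : 1
    exact (h.comm n).trans (add_zero _)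
  choose hl hhl using fun i j => exists_lift I (Q.X i) (C.X j) (h.hom i j)
  let ι' : Q ⟶ C := Homotopy.nullHomotopicMap hl
  have hι' : FC.map ι' = ι := by
    rw [hι, Homotopy.map_nullHomotopicMap]
    exact congrArg Homotopy.nullHomotopicMap (funext fun i => funext fun j => hhl i j)
  have hFι : ∀ p, (F I).map (ι'.f p) = (CochainComplex.mappingCone.inr α).f p ≫ eC.inv.f p := fun p =>
    (congrArg (fun q : FC.obj Q ⟶ FC.obj C => q.f p) hι').trans (HomologicalComplex.comp_f _ _ _)
  haveI : ∀ p, Projective (C.X p) := fun p => hP.projective (hC p)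
  choose r hr using fun p => exists_lift I (C.X p) (Q.X p)
    (eC.hom.f p ≫ (CochainComplex.mappingCone.snd α).v p p (add_zero p))
  have hiso : ∀ p, IsIso (ι'.f p ≫ r p) := fun p => by
    haveI : IsIso ((F I).map (ι'.f p ≫ r p)) := by
      have e1 : (F I).map (ι'.f p ≫ r p) = 𝟙 _ :=
        ((F I).map_comp _ _).trans ((congrArg₂ (· ≫ ·) (hFι p) (hr p)).trans (cancel_mid _ _ _ _
          ((HomologicalComplex.comp_f eC.inv eC.hom p).symm.trans
            (congrArg (fun q : Cb ⟶ Cb => q.f p) eC.inv_hom_id))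
          (CochainComplex.mappingCone.inr_f_snd_v α p)))
      rw [e1]
      infer_instance
    exact hP.isIso_of_isIso (hQ p) (hQ p) _
  let ρ : ∀ p, C.X p ⟶ Q.X p := fun p => r p ≫ @inv _ _ _ _ (ι'.f p ≫ r p) (hiso p)
  have hρ : ∀ p, ι'.f p ≫ ρ p = 𝟙 _ := fun p => by
    rw [show ι'.f p ≫ ρ p = (ι'.f p ≫ r p) ≫ @inv _ _ _ _ (ι'.f p ≫ r p) (hiso p) from (Category.assoc _ _ _).symm,
      IsIso.hom_inv_id]
  haveI : ∀ p, Mono (ι'.f p) := fun p => mono_of_mono_fac (hρ p)
  haveI : Mono ι' := HomologicalComplex.mono_of_mono_f _ inferInstance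
  let S := ShortComplex.mk ι' (cokernel.π ι') (cokernel.condition ι')
  have hS : S.ShortExact :=
    { exact := S.exact_of_g_is_cokernel (cokernelIsCokernel ι')
      mono_f := inferInstanceAs (Mono ι')
      epi_g := inferInstanceAs (Epi (cokernel.π ι')) }
  let σ : ∀ p, (S.map (HomologicalComplex.eval _ _ p)).Splitting := fun p =>
    have hp := hS.map_of_exact (HomologicalComplex.eval _ _ p)
    ShortComplex.Splitting.ofExactOfRetraction _ hp.exact (ρ p) (hρ p) hp.epi_g
  let P' : DRing.Cx R := cokernel ι'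
  have hP' : ∀ p, Pc (P'.X p) := fun p => hP.split (Q.X p) (P'.X p) (hQ p)
    (Pc.prop_of_iso ((σ p).isoBinaryBiproduct ≪≫ ModuleCat.biprodIsoProd _ _) (hC p))
  -- the reduction of the cokernel
  have hFS : (S.map FC).ShortExact := HomologicalComplex.shortExact_of_degreewise_shortExact _ fun p =>
    ((σ p).map (F I)).shortExact
  let T := CochainComplex.mappingCone.triangleRotateShortComplex α
  have hT : T.ShortExact := HomologicalComplex.shortExact_of_degreewise_shortExact _ fun p =>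
    (CochainComplex.mappingCone.triangleRotateShortComplexSplitting α p).shortExact
  have hcomp : (S.map FC).f ≫ eC.hom = T.f := by
    show FC.map ι' ≫ eC.hom = CochainComplex.mappingCone.inr α
    rw [hι']
    exact (Category.assoc _ _ _).trans ((congrArg (CochainComplex.mappingCone.inr α ≫ ·) eC.inv_hom_id).trans
      (Category.comp_id _))
  let q : FC.obj P' ≅ E⟦(1 : ℤ)⟧ :=
    cokIso (S.map FC) T hFS hT (Iso.refl _) eC (hcomp.trans (Category.id_comp _).symm)
  -- the shift
  have hCz : IsZero (DRing.toD C) := H4DR.Dualizing.isZero_of_subsingleton_HD fun i =>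
    (H4DR.TorAmp.subsingleton_HD_toD_iff C i).2 (hCac i)
  have hiso3 : IsIso (DerivedCategory.triangleOfSES hS).mor₃ :=
    (Pretriangulated.Triangle.isZero₂_iff_isIso₃ _ (DerivedCategory.triangleOfSES_distinguished hS)).1 hCz
  let eD : DRing.toD P' ≅ (DRing.toD Q)⟦(1 : ℤ)⟧ := @asIso _ _ _ _ (DerivedCategory.triangleOfSES hS).mor₃ hiso3
  refine ⟨P'⟦(-1 : ℤ)⟧, bC + 1, fun i hi => ?_, fun i => hP' _, ⟨?_⟩, ⟨?_⟩⟩
  · have he : Epi ((cokernel.π ι').f (i + (-1))) := (hS.map_of_exact (HomologicalComplex.eval _ _ (i + (-1)))).epi_g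
    exact @IsZero.of_epi _ _ _ _ _ ((cokernel.π ι').f (i + (-1))) he (hCbd _ (by omega))
  · exact (DerivedCategory.Q.commShiftIso (-1 : ℤ)).app P' ≪≫ (shiftFunctor _ (-1 : ℤ)).mapIso eD ≪≫
      (shiftShiftNeg (DRing.toD Q) (1 : ℤ)) ≪≫ eK
  · exact (FC.commShiftIso (-1 : ℤ)).app P' ≪≫ (shiftFunctor _ (-1 : ℤ)).mapIso q ≪≫ shiftShiftNeg E (1 : ℤ)

end Groth.Agent.H4Lift
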