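import Groth.Agent.H4Lift.Classes
import Mathlib.RingTheory.LocalRing.ResidueField.Basic

/-!
# Minimal complexes over a local ring
-/

set_option autoImplicit false

universe u

open CategoryTheory CategoryTheory.Limits

attribute [local instance] HasDerivedCategory.standard

noncomputable section

namespace Groth.Agent.H4Lift

variable {κ : Type u} [CommRing κ]

theorem homotopy_eq {D : Type*} [Category D] [Preadditive D] {X Y : CochainComplex D ℤ}
    (hX : ∀ i j, X.d i j = 0) (hY : ∀ i j, Y.d i j = 0) {a b : X ⟶ Y} (h : Homotopy a b) : a = b := by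
  ext n : 1
  rw [h.comm n, dNext_eq (i' := n + 1) _ rfl, prevD_eq (j' := n - 1) _ (sub_add_cancel n 1), hX, hY]
  simp

theorem finite_homology_of_noetherian [IsNoetherianRing κ] (X : DRing.Cx κ) (i : ℤ) [Module.Finite κ (X.X i)] :
    Module.Finite κ (X.homology i) := by
  haveI : Module.Finite κ (X.cycles i) := Module.Finite.of_injective (X.iCycles i).hom
    ((ModuleCat.mono_iff_injective _).1 inferInstance)
  exact Module.Finite.of_surjective (X.homologyπ i).hom ((ModuleCat.epi_iff_surjective _).1 inferInstance)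

theorem free_of_isField {κ : Type u} [CommRing κ] (hκ : IsField κ) (M : Type u) [AddCommGroup M] [Module κ M] :
    Module.Free κ M :=
  letI := hκ.toField
  Module.Free.of_divisionRing κ M

theorem surjective_of_finrank_le {κ : Type u} [CommRing κ] (hκ : IsField κ) {N M : Type u} [AddCommGroup N]
    [Module κ N] [AddCommGroup M] [Module κ M] [Module.Finite κ M] (f : N →ₗ[κ] M) (hf : Function.Injective f)
    (h : Module.finrank κ M ≤ Module.finrank κ N) : Function.Surjective f := by
  letI := hκ.toField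
  rw [← LinearMap.range_eq_top]
  refine Submodule.eq_top_of_finrank_eq (le_antisymm (Submodule.finrank_le _) ?_)
  rwa [LinearMap.finrank_range_of_inj hf]

/-- Over a field a complex whose terms are no larger than its cohomology has zero differential. -/
theorem d_eq_zero_of_finrank (κ : Type u) [CommRing κ] [IsNoetherianRing κ] [Nontrivial κ] (hκ : IsField κ) (X : DRing.Cx κ) (i : ℤ) [Module.Finite κ (X.X i)]
    (h : Module.finrank κ (X.homology i) = Module.finrank κ (X.X i)) (j : ℤ) : X.d i j = 0 := by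
  have hinj : Function.Injective (X.iCycles i).hom := (ModuleCat.mono_iff_injective _).1 inferInstance
  haveI : Module.Finite κ (X.cycles i) := Module.Finite.of_injective (X.iCycles i).hom hinj
  have h1 : Module.finrank κ (X.homology i) ≤ Module.finrank κ (X.cycles i) :=
    LinearMap.finrank_le_finrank_of_surjective (f := (X.homologyπ i).hom)
      ((ModuleCat.epi_iff_surjective _).1 inferInstance)
  have hsurj : Function.Surjective (X.iCycles i).hom :=
    surjective_of_finrank_le hκ (X.iCycles i).hom hinj (h ▸ h1)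
  haveI : Epi (X.iCycles i) := (ModuleCat.epi_iff_surjective _).2 hsurj
  rw [← cancel_epi (X.iCycles i), X.iCycles_d, comp_zero]

/-- The cohomology with zero differential. -/
abbrev cohomCx (X : DRing.Cx κ) : DRing.Cx κ where
  X i := X.homology i
  d _ _ := 0

/-- Over a field a complex is quasi-isomorphic to its cohomology. -/
theorem exists_iso_cohomCx (κ : Type u) [CommRing κ] (hκ : IsField κ) (X : DRing.Cx κ) :
    Nonempty (DRing.toD (cohomCx X) ≅ DRing.toD X) := by
  have hs : ∀ i, ∃ s : X.homology i ⟶ X.cycles i, s ≫ X.homologyπ i = 𝟙 _ := fun i =>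
    haveI := free_of_isField hκ (X.homology i)
    haveI : Projective (X.homology i) := (IsProjective.iff_projective (R := κ) (X.homology i)).1 Module.Projective.of_free
    ⟨Projective.factorThru (𝟙 _) (X.homologyπ i), Projective.factorThru_comp _ _⟩
  choose s hs using hs
  let φ : cohomCx X ⟶ X :=
    { f := fun i => s i ≫ X.iCycles i
      comm' := fun i j _ => by rw [Category.assoc, X.iCycles_d]; simp }
  haveI : QuasiIso φ := ⟨fun i => by
    rw [quasiIsoAt_iff_isIso_homologyMap]
    have h0 : ∀ j, (cohomCx X).d i j = 0 := fun _ => rfl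
    haveI : IsIso ((cohomCx X).iCycles i) := (cohomCx X).isIso_iCycles i (i + 1) (by simp) (h0 _)
    haveI : IsIso ((cohomCx X).homologyπ i) := (cohomCx X).isIso_homologyπ (i - 1) i (by simp) rfl
    have hc : HomologicalComplex.cyclesMap φ i = (cohomCx X).iCycles i ≫ s i := by
      rw [← cancel_mono (X.iCycles i), HomologicalComplex.cyclesMap_i, Category.assoc]
    have hh : (cohomCx X).homologyπ i ≫ HomologicalComplex.homologyMap φ i = (cohomCx X).iCycles i := by
      rw [HomologicalComplex.homologyπ_naturality, hc, Category.assoc, hs]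
      exact Category.comp_id _
    exact IsIso.of_isIso_fac_left hh⟩
  exact ⟨asIso (DerivedCategory.Q.map φ)⟩

variable (R : Type u) [CommRing R] [IsLocalRing R]

theorem maximalIdeal_le_jacobson' : IsLocalRing.maximalIdeal R ≤ Ideal.jacobson (⊥ : Ideal R) :=
  IsLocalRing.maximalIdeal_le_jacobson _

theorem good_FP_local : Good (IsLocalRing.maximalIdeal R) (FP R) := good_FP (maximalIdeal_le_jacobson' R)

theorem finrank_F (X : ModuleCat.{u} R) [Module.Free R X] :
    Module.finrank (R ⧸ IsLocalRing.maximalIdeal R) ((F (IsLocalRing.maximalIdeal R)).obj X) = Module.finrank R X :=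
  Module.finrank_baseChange (R := R ⧸ IsLocalRing.maximalIdeal R)

theorem finrank_HD_toD (X : DRing.Cx κ) (i : ℤ) :
    Module.finrank κ (Dual.HD κ (DRing.toD X) i) = Module.finrank κ (X.homology i) :=
  LinearEquiv.finrank_eq ((DerivedCategory.homologyFunctorFactors (ModuleCat.{u} κ) i).app X).toLinearEquiv

theorem minimal_complexes [DRing.HasLBaseChange (Ideal.Quotient.mk (IsLocalRing.maximalIdeal R))] (K : Dual.D R)
    (hK : DRing.IsPseudoCoherent' R K) :
    let κ := R ⧸ IsLocalRing.maximalIdeal R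
    let Kκ := (DRing.LBaseChange (Ideal.Quotient.mk (IsLocalRing.maximalIdeal R))).obj K
    let Min := fun P : DRing.Cx R => (∃ b : ℤ, DRing.VanishesAbove P b) ∧
      (∀ i : ℤ, Module.Free R (P.X i) ∧ Module.Finite R (P.X i) ∧
        Module.finrank R (P.X i) = Module.finrank κ (Dual.HD κ Kκ i)) ∧ Nonempty (DRing.toD P ≅ K)
    (∀ i : ℤ, Module.Finite κ (Dual.HD κ Kκ i)) ∧ (∃ b : ℤ, ∀ i : ℤ, b < i → Subsingleton (Dual.HD κ Kκ i)) ∧
      (∃ P : DRing.Cx R, Min P) ∧ ∀ P Q : DRing.Cx R, Min P → Min Q → Nonempty (P ≅ Q) := by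
  intro κ Kκ Min
  let FC := (F (IsLocalRing.maximalIdeal R)).mapHomologicalComplex (ComplexShape.up ℤ)
  have hκ : IsField κ := (Ideal.Quotient.maximal_ideal_iff_isField_quotient _).1 inferInstance
  haveI : Nontrivial κ := hκ.nontrivial
  haveI : IsNoetherianRing κ :=
    letI := hκ.toField
    inferInstance
  have hrep : ∀ {P : DRing.Cx R} {b : ℤ}, DRing.VanishesAbove P b → (∀ i, Module.Free R (P.X i)) →
      (DRing.toD P ≅ K) → Nonempty (Kκ ≅ DRing.toD (FC.obj P)) := fun hb hf e =>
    ⟨(DRing.LBaseChange (Ideal.Quotient.mk (IsLocalRing.maximalIdeal R))).mapIso e.symm ≪≫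
      H4DR.TorAmp.lbaseObj (Ideal.Quotient.mk _) _ (H4DR.TorAmp.isKFlat_of_flat hb fun i => haveI := hf i; inferInstance)⟩
  obtain ⟨Q, c, hQb, hQ, ⟨eK⟩⟩ := hK
  obtain ⟨eQ⟩ := hrep hQb (fun i => (hQ i).2) eK
  have hfinX : ∀ i, Module.Finite κ ((FC.obj Q).X i) := fun i =>
    haveI := (hQ i).1
    Module.Finite.base_change R κ (Q.X i)
  have hfin : ∀ i, Module.Finite κ ((FC.obj Q).homology i) := fun i =>
    haveI := hfinX i
    finite_homology_of_noetherian (FC.obj Q) i
  have hzero : ∀ i, c < i → IsZero ((FC.obj Q).homology i) := fun i hi => by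
    rw [← HomologicalComplex.exactAt_iff_isZero_homology]
    exact (HomologicalComplex.exactAt_iff _ _).2 (ShortComplex.exact_of_isZero_X₂ _
      ((F (IsLocalRing.maximalIdeal R)).map_isZero (hQb i hi)))
  let eH : ∀ i : ℤ, (DerivedCategory.homologyFunctor (ModuleCat.{u} κ) i).obj Kκ ≅ (FC.obj Q).homology i := fun i =>
    (DerivedCategory.homologyFunctor _ i).mapIso eQ ≪≫ (DerivedCategory.homologyFunctorFactors _ i).app (FC.obj Q)
  refine ⟨fun i => ?_, ⟨c, fun i hi => ModuleCat.subsingleton_of_isZero ((hzero i hi).of_iso (eH i))⟩, ?_, ?_⟩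
  · haveI := hfin i
    exact Module.Finite.equiv (eH i).symm.toLinearEquiv
  · obtain ⟨eE⟩ := exists_iso_cohomCx κ hκ (FC.obj Q)
    obtain ⟨P, b', hPb, hP, hPK, ⟨e⟩⟩ := Good.exists_rep (good_FP_local R) prod_FP K Q c hQb
      (fun i => ⟨(hQ i).1, haveI := (hQ i).2; inferInstance⟩) eK (cohomCx (FC.obj Q)) c hzero (fun i => by
        haveI := hfin i
        haveI := free_of_isField hκ ((FC.obj Q).homology i)
        obtain ⟨n, hn⟩ := exists_free_iso (I := IsLocalRing.maximalIdeal R) ((FC.obj Q).homology i)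
        exact ⟨_, ⟨inferInstanceAs (Module.Finite R (Fin n → R)), inferInstanceAs (Module.Projective R (Fin n → R))⟩, hn⟩)
      (eE ≪≫ eQ.symm)
    refine ⟨P, ⟨b', hPb⟩, fun i => ?_, hPK⟩
    haveI := (hP i).1
    haveI := (hP i).2
    haveI : Module.Free R (P.X i) := Module.free_of_flat_of_isLocalRing
    refine ⟨inferInstance, inferInstance, ?_⟩
    rw [← finrank_F R (P.X i), LinearEquiv.finrank_eq (eH i).toLinearEquiv]
    exact LinearEquiv.finrank_eq ((HomologicalComplex.eval _ _ i).mapIso e).toLinearEquiv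
  · rintro P P₂ ⟨⟨b₁, hb₁⟩, hP, ⟨e₁⟩⟩ ⟨⟨b₂, hb₂⟩, hP₂, ⟨e₂⟩⟩
    have hd : ∀ {X : DRing.Cx R} {b : ℤ}, DRing.VanishesAbove X b → (∀ i : ℤ, Module.Free R (X.X i) ∧
        Module.Finite R (X.X i) ∧ Module.finrank R (X.X i) = Module.finrank κ (Dual.HD κ Kκ i)) →
        (DRing.toD X ≅ K) → ∀ i j, (FC.obj X).d i j = 0 := by
      intro X b hb hX e i j
      obtain ⟨eX⟩ := hrep hb (fun i => (hX i).1) e
      haveI := (hX i).1
      haveI := (hX i).2.1
      haveI : Module.Finite κ ((FC.obj X).X i) := Module.Finite.base_change R κ (X.X i)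
      refine d_eq_zero_of_finrank κ hκ (FC.obj X) i ?_ j
      rw [← finrank_HD_toD, ← LinearEquiv.finrank_eq ((DerivedCategory.homologyFunctor _ i).mapIso eX).toLinearEquiv]
      exact (hX i).2.2.symm.trans (finrank_F R (X.X i)).symm
    have hKP : ∀ {X : DRing.Cx R} {b : ℤ}, DRing.VanishesAbove X b → (∀ i : ℤ, Module.Free R (X.X i)) →
        CochainComplex.IsKProjective X := by
      intro X b hb hX
      haveI : CochainComplex.IsStrictlyLE X b := (CochainComplex.isStrictlyLE_iff X b).2 hb
      haveI : ∀ n, Projective (X.X n) := fun n =>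
        haveI := hX n
        (IsProjective.iff_projective (R := R) (X.X n)).1 inferInstance
      exact CochainComplex.isKProjective_of_projective X b
    haveI := hKP hb₁ (fun i => (hP i).1)
    haveI := hKP hb₂ (fun i => (hP₂ i).1)
    obtain ⟨f, hf⟩ := H16Derived.ProjLift.Q_map_surjective P P₂ (e₁ ≪≫ e₂.symm).hom
    obtain ⟨g, hg⟩ := H16Derived.ProjLift.Q_map_surjective P₂ P (e₁ ≪≫ e₂.symm).inv
    obtain ⟨h1⟩ := H16Derived.ProjLift.homotopic_of_Q_map P P (f ≫ g) (𝟙 P) (by
      rw [DerivedCategory.Q.map_comp, DerivedCategory.Q.map_id, hf, hg, Iso.hom_inv_id])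
    obtain ⟨h2⟩ := H16Derived.ProjLift.homotopic_of_Q_map P₂ P₂ (g ≫ f) (𝟙 P₂) (by
      rw [DerivedCategory.Q.map_comp, DerivedCategory.Q.map_id, hf, hg, Iso.inv_hom_id])
    have a1 : FC.map f ≫ FC.map g = 𝟙 _ := by
      rw [← FC.map_comp, homotopy_eq (hd hb₁ hP e₁) (hd hb₁ hP e₁) ((F _).mapHomotopy h1)]
      exact FC.map_id P
    have a2 : FC.map g ≫ FC.map f = 𝟙 _ := by
      rw [← FC.map_comp, homotopy_eq (hd hb₂ hP₂ e₂) (hd hb₂ hP₂ e₂) ((F _).mapHomotopy h2)]
      exact FC.map_id P₂
    haveI : ∀ i, IsIso (f.f i) := fun i => by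
      haveI := (hP i).1
      haveI := (hP₂ i).1
      haveI : IsIso ((F (IsLocalRing.maximalIdeal R)).map (f.f i)) :=
        ⟨(FC.map g).f i, congrArg (fun q : FC.obj P ⟶ FC.obj P => q.f i) a1,
          congrArg (fun q : FC.obj P₂ ⟶ FC.obj P₂ => q.f i) a2⟩
      exact (good_FP_local R).isIso_of_isIso ⟨(hP i).2.1, inferInstance⟩ ⟨(hP₂ i).2.1, inferInstance⟩ (f.f i)
    haveI : IsIso f := HomologicalComplex.Hom.isIso_of_components f
    exact ⟨asIso f⟩

end Groth.Agent.H4Lift
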